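import Groth.Prelude.Def_Wider
import Groth.Agent.S0300
import Groth.Agent.S0302
import Groth.Agent.S0311
import Groth.Agent.S0336
import Groth.Agent.S0342
import Groth.Agent.RegLoc6.Serre
import Groth.Agent.S11617
import Groth.Agent.S11665
import Mathlib.RingTheory.Flat.Equalizer
import Mathlib.RingTheory.TensorProduct.Quotient
import Mathlib.LinearAlgebra.DirectSum.Finsupp
import Mathlib.Algebra.Category.ModuleCat.ChangeOfRings

/-! Torsion modules fixed by the Frobenius functor. -/

set_option linter.style.haveILetI false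

universe u

open CategoryTheory IsLocalRing
open scoped TensorProduct

namespace Groth.Agent.H1FrobStable

/-- Torsion by an ideal commutes with flat base change. -/
theorem exists_torsion_baseChange {R B : Type u} [CommRing R] [CommRing B] [Algebra R B] [Module.Flat R B]
    {J : Ideal R} (hJ : J.FG) {M : Type u} [AddCommGroup M] [Module R M] {N : Type u} [AddCommGroup N] [Module B N]
    (e : B ⊗[R] M ≃ₗ[B] N) {ι : Type u} (c : LocCoh.torsionBy J M ≃ₗ[R] (ι →₀ R ⧸ J)) :
    Nonempty (LocCoh.torsionBy (J.map (algebraMap R B)) N ≃ₗ[B] (ι →₀ B ⧸ J.map (algebraMap R B))) := by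
  classical
  obtain ⟨n, g, hg⟩ := Submodule.fg_iff_exists_fin_generating_family.1 hJ
  let u : M →ₗ[R] (Fin n → M) := LinearMap.pi fun i => g i • LinearMap.id
  have hu : LinearMap.ker u = LocCoh.torsionBy J M := by
    ext x
    rw [LinearMap.mem_ker, Submodule.mem_torsionBySet_iff]
    refine ⟨fun h a => ?_, fun h => funext fun i => h ⟨g i, hg ▸ Submodule.subset_span ⟨i, rfl⟩⟩⟩
    obtain ⟨a, ha⟩ := a
    change a • x = 0
    rw [SetLike.mem_coe, ← hg] at ha
    induction ha using Submodule.span_induction with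
    | mem a ha => obtain ⟨i, rfl⟩ := ha; exact congrFun h i
    | zero => exact zero_smul R x
    | add p q _ _ hp hq => rw [add_smul, hp, hq, add_zero]
    | smul r p _ hp => rw [smul_eq_mul, mul_smul, hp, smul_zero]
  let v := TensorProduct.AlgebraTensorModule.lTensor B B u
  have hv : ∀ z, (TensorProduct.piRight R B B (fun _ : Fin n => M)) (v z) = fun i => algebraMap R B (g i) • z := by
    intro z
    induction z using TensorProduct.induction_on with
    | zero => simp; rfl
    | add a b ha hb => simp only [map_add, ha, hb, smul_add]; rfl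
    | tmul b m =>
      funext i
      simp [v, u]
  have hk : (LinearMap.ker v).map (e : B ⊗[R] M →ₗ[B] N) = LocCoh.torsionBy (J.map (algebraMap R B)) N := by
    ext y
    rw [Submodule.mem_map, Submodule.mem_torsionBySet_iff]
    refine ⟨?_, fun h => ⟨e.symm y, ?_, e.apply_symm_apply y⟩⟩
    · rintro ⟨z, hz, rfl⟩ ⟨d, hd⟩
      have hz' : ∀ i, algebraMap R B (g i) • z = 0 := fun i => by
        have := congrFun (hv z) i
        rw [LinearMap.mem_ker.1 hz, map_zero] at this
        exact this.symm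
      show d • e z = 0
      rw [SetLike.mem_coe, ← hg, Ideal.map_span] at hd
      induction hd using Submodule.span_induction with
      | mem d hd => obtain ⟨_, ⟨i, rfl⟩, rfl⟩ := hd; rw [← map_smul, hz' i, map_zero]
      | zero => exact zero_smul B _
      | add p q _ _ hp hq => rw [add_smul, hp, hq, add_zero]
      | smul r p _ hp => rw [smul_eq_mul, mul_smul, hp, smul_zero]
    · refine LinearMap.mem_ker.2 ((TensorProduct.piRight R B B (fun _ : Fin n => M)).injective ?_)
      rw [hv, map_zero]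
      funext i
      rw [← map_smul e.symm, h ⟨_, Ideal.mem_map_of_mem _ (hg ▸ Submodule.subset_span ⟨i, rfl⟩)⟩, map_zero]
      rfl
  let d := ((LinearEquiv.ofEq _ _ hu).trans c).baseChange (A := B)
  exact ⟨(((e.submoduleMap (LinearMap.ker v)).trans (LinearEquiv.ofEq _ _ hk)).symm.trans
    (LinearMap.tensorKerEquiv B B u).symm).trans ((d.trans (TensorProduct.finsuppRight R B B (R ⧸ J) ι)).trans
      (Finsupp.mapRange.linearEquiv (Algebra.TensorProduct.quotIdealMapEquivTensorQuot B J).symm.toLinearEquiv))⟩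

/-- Torsion by an ideal commutes with flat extension of scalars. -/
theorem exists_torsion_extend {R B : Type u} [CommRing R] [CommRing B] (φ : R →+* B) (hφ : φ.Flat)
    {J : Ideal R} (hJ : J.FG) {M : Type u} [AddCommGroup M] [Module R M] {N : Type u} [AddCommGroup N] [Module B N]
    (e : (ModuleCat.extendScalars φ).obj (ModuleCat.of R M) ≅ ModuleCat.of B N) {ι : Type u}
    (c : LocCoh.torsionBy J M ≃ₗ[R] (ι →₀ R ⧸ J)) :
    Nonempty (LocCoh.torsionBy (J.map φ) N ≃ₗ[B] (ι →₀ B ⧸ J.map φ)) := by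
  letI := φ.toAlgebra
  haveI : Module.Flat R B := hφ
  exact exists_torsion_baseChange (B := B) hJ e.toLinearEquiv c

/-- Top local cohomology under flat base change. -/
theorem exists_H_extend {R B : Type u} [CommRing R] [IsNoetherianRing R] [CommRing B] [IsNoetherianRing B]
    (φ : R →+* B) (hφ : φ.Flat) (I : Ideal R) (n : ℕ) (J : Ideal B) (hJ : (I.map φ).radical = J.radical) :
    Nonempty ((ModuleCat.extendScalars φ).obj (ModuleCat.of R (LocCoh.H I n R)) ≅ ModuleCat.of B (LocCoh.H J n B)) := by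
  letI := φ.toAlgebra
  haveI : Module.Flat R B := hφ
  obtain ⟨e⟩ := Groth.Agent.S11617.result R B I R n
  exact ⟨(e.trans ((((localCohomology (I.map φ) n).mapIso (TensorProduct.AlgebraTensorModule.rid R B B).toModuleIso).toLinearEquiv).trans
    ((localCohomology.isoOfSameRadical hJ n).app (ModuleCat.of B B)).toLinearEquiv)).toModuleIso⟩

variable {R : Type u} [CommRing R] [IsLocalRing R]

/-- The socle is free over the residue field. -/
theorem exists_socle_basis (M : Type u) [AddCommGroup M] [Module R M] :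
    ∃ ι : Type u, Nonempty (LocCoh.torsionBy (maximalIdeal R) M ≃ₗ[R] (ι →₀ R ⧸ maximalIdeal R)) := by
  letI := Ideal.Quotient.field (maximalIdeal R)
  let b := Module.Free.chooseBasis (R ⧸ maximalIdeal R) (LocCoh.torsionBy (maximalIdeal R) M)
  exact ⟨_, ⟨b.repr.restrictScalars R⟩⟩

/-- A nonzero element of a torsion module has a nonzero multiple in the socle. -/
theorem eq_zero_of_socle {M : Type u} [AddCommGroup M] [Module R M] (hM : LocCoh.IsPowerTorsion (maximalIdeal R) M)
    (N : Submodule R M) (h : ∀ x ∈ N, x ∈ LocCoh.torsionBy (maximalIdeal R) M → x = 0) : N = ⊥ := by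
  refine (Submodule.eq_bot_iff _).2 fun x hx => ?_
  have key : ∀ k : ℕ, ∀ y ∈ N, (∀ a ∈ maximalIdeal R ^ k, a • y = 0) → y = 0 := by
    intro k
    induction k with
    | zero => exact fun y _ hy => by simpa using hy 1 (by simp)
    | succ k ih =>
      exact fun y hyN hy => ih y hyN fun a ha => h _ (N.smul_mem a hyN) ((Submodule.mem_torsionBySet_iff _ _).2
        fun ⟨b, hb⟩ => by
          show b • a • y = 0
          rw [← mul_smul, hy _ (pow_succ' (maximalIdeal R) k ▸ Ideal.mul_mem_mul hb ha)])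
  obtain ⟨k, hk⟩ := hM x
  exact key k x hx hk

/-- Iterated Frobenius powers of the maximal ideal. -/
noncomputable def Jn (F : R →+* R) : ℕ → Ideal R
  | 0 => maximalIdeal R
  | e + 1 => (Jn F e).map F

theorem Jn_le_pow (p : ℕ) [Fact p.Prime] [CharP R p] (e : ℕ) :
    Jn (frobenius R p) e ≤ maximalIdeal R ^ (e + 1) := by
  induction e with
  | zero => simp [Jn]
  | succ e ih =>
    show (Jn (frobenius R p) e).map (frobenius R p) ≤ _
    refine Ideal.map_le_iff_le_comap.2 fun x hx => ?_
    show x ^ p ∈ maximalIdeal R ^ (e + 1 + 1)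
    have h2 := (Fact.out : p.Prime).two_le
    refine Ideal.pow_le_pow_right ?_ (by rw [pow_mul]; exact Ideal.pow_mem_pow (ih hx) p :
      x ^ p ∈ maximalIdeal R ^ ((e + 1) * p))
    calc e + 1 + 1 ≤ (e + 1) * 2 := by omega
      _ ≤ (e + 1) * p := Nat.mul_le_mul_left _ h2

/-- A torsion module over a regular local ring fixed by Frobenius is a sum of injective hulls. -/
theorem exists_equiv_finsupp (p : ℕ) [Fact p.Prime] (R : Type u) [CommRing R] [IsRegularLocalRing R] [CharP R p]
    (E : Type u) [AddCommGroup E] [Module R E] (f : ResidueField R →ₗ[R] E) (hf : InjHull.IsInjectiveHull f)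
    (M : Type u) [AddCommGroup M] [Module R M] (hM : LocCoh.IsPowerTorsion (maximalIdeal R) M)
    (h : (ModuleCat.extendScalars (frobenius R p)).obj (ModuleCat.of R M) ≅ ModuleCat.of R M) :
    ∃ ι : Type u, Nonempty (M ≃ₗ[R] (ι →₀ E)) := by
  classical
  haveI := Groth.Agent.S0342.result R
  haveI := Groth.Agent.RegLoc6.isRegularRing_of_isRegularLocalRing R
  let F := frobenius R p
  let m := maximalIdeal R
  have hF : F.Flat := (Groth.Agent.S0336.result p R).1 inferInstance
  obtain ⟨n, hn⟩ : ∃ n : ℕ, ringKrullDim R = n :=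
    ⟨(maximalIdeal R).spanFinrank, IsRegularLocalRing.spanFinrank_maximalIdeal.symm⟩
  obtain ⟨g, hg⟩ := Groth.Agent.S11665.result R n hn
  obtain ⟨eH, -⟩ := Groth.Agent.S0302.result R (ResidueField R) E (LocCoh.H m n R) f hf g hg
  obtain ⟨hH⟩ := exists_H_extend F hF m n m (le_antisymm
    (Ideal.radical_mono (Ideal.map_le_iff_le_comap.2 fun x hx => Ideal.pow_mem_of_mem m hx p (Fact.out : p.Prime).pos))
    (Ideal.radical_le_radical_iff.2 fun x hx => ⟨p, Ideal.mem_map_of_mem F hx⟩))
  let hE : (ModuleCat.extendScalars F).obj (ModuleCat.of R E) ≅ ModuleCat.of R E :=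
    (ModuleCat.extendScalars F).mapIso eH.toModuleIso ≪≫ hH ≪≫ eH.symm.toModuleIso
  have tower : ∀ {N : Type u} [AddCommGroup N] [Module R N],
      ((ModuleCat.extendScalars F).obj (ModuleCat.of R N) ≅ ModuleCat.of R N) → ∀ {ι : Type u},
      (LocCoh.torsionBy m N ≃ₗ[R] (ι →₀ R ⧸ m)) → ∀ e, Nonempty (LocCoh.torsionBy (Jn F e) N ≃ₗ[R] (ι →₀ R ⧸ Jn F e)) := by
    intro N _ _ hN ι c e
    induction e with
    | zero => exact ⟨c⟩
    | succ e ih =>
      obtain ⟨c'⟩ := ih
      exact exists_torsion_extend F hF (IsNoetherian.noetherian _) hN c'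
  obtain ⟨ι, ⟨c⟩⟩ := exists_socle_basis (R := R) M
  -- socle of `E`
  have hfm : ∀ x, f x ∈ LocCoh.torsionBy m E := fun x => (Submodule.mem_torsionBySet_iff _ _).2 fun ⟨a, ha⟩ => by
    show a • f x = 0
    rw [← map_smul, show a • x = 0 from by
      obtain ⟨r, rfl⟩ := IsLocalRing.residue_surjective x
      show residue R (a * r) = 0
      exact (residue_eq_zero_iff _).2 (m.mul_mem_right r ha), map_zero]
  have hsurj : ∀ y ∈ LocCoh.torsionBy m E, ∃ x, f x = y := by
    intro y hy
    by_contra hne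
    have hy0 : y ≠ 0 := fun h0 => hne ⟨0, by rw [map_zero, h0]⟩
    obtain ⟨z, hz, hz0⟩ := (Submodule.ne_bot_iff _).1 (hf.essential (Submodule.span R {y}) (by simpa using hy0))
    obtain ⟨hzy, x, hx⟩ := hz
    obtain ⟨a, rfl⟩ := Submodule.mem_span_singleton.1 hzy
    have ha : IsUnit a := by
      by_contra ha
      exact hz0 ((Submodule.mem_torsionBySet_iff _ _).1 hy ⟨a, ha⟩)
    obtain ⟨u, rfl⟩ := ha
    exact hne ⟨(↑u⁻¹ : R) • x, by rw [map_smul, hx, smul_smul, Units.inv_mul, one_smul]⟩
  let sE : (R ⧸ m) ≃ₗ[R] LocCoh.torsionBy m E := LinearEquiv.ofBijective (f.codRestrict _ hfm)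
    ⟨fun a b hab => hf.injective (congrArg Subtype.val hab), fun y => (hsurj y y.2).imp fun x hx => Subtype.ext hx⟩
  let cE := sE.symm.trans (Finsupp.LinearEquiv.finsuppUnique R (R ⧸ m) PUnit.{u + 1}).symm
  -- the sum of hulls
  let P := ι →₀ E
  haveI : Module.Injective R P := by
    haveI := Groth.Agent.S0300.result R (fun _ : ι => E) fun _ => hf.isInjective
    exact (Module.Baer.of_injective this).of_equiv (finsuppLequivDFinsupp R).symm |>.injective
  have hP : LocCoh.IsPowerTorsion m P := by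
    intro x
    induction x using Finsupp.induction_linear with
    | zero => exact ⟨0, fun _ _ => smul_zero _⟩
    | add a b ha hb =>
      obtain ⟨i, hi⟩ := ha
      obtain ⟨j, hj⟩ := hb
      exact ⟨max i j, fun r hr => by
        rw [smul_add, hi r (Ideal.pow_le_pow_right (le_max_left i j) hr),
          hj r (Ideal.pow_le_pow_right (le_max_right i j) hr), add_zero]⟩
    | single i y =>
      obtain ⟨k, hk⟩ := Groth.Agent.S0311.result R E f hf y
      exact ⟨k, fun r hr => by rw [Finsupp.smul_single, hk r hr, Finsupp.single_zero]⟩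
  let s : LocCoh.torsionBy m M →ₗ[R] P := (Finsupp.mapRange.linearMap f).comp c.toLinearMap
  have hs : Function.Injective s :=
    (Finsupp.mapRange_injective f (map_zero f) hf.injective).comp c.injective
  obtain ⟨θ, hθ⟩ := Module.Injective.extension_property R P _ _ (LocCoh.torsionBy m M).subtype
    Subtype.val_injective s
  have hθs : ∀ x : LocCoh.torsionBy m M, θ x = s x := fun x => LinearMap.congr_fun hθ x
  have hθi : Function.Injective θ := LinearMap.ker_eq_bot.1 (eq_zero_of_socle hM _ fun x hx hx' => by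
    have : s ⟨x, hx'⟩ = s 0 := by rw [← hθs ⟨x, hx'⟩, map_zero]; exact hx
    exact congrArg Subtype.val (hs this))
  have hsoc : ∀ y ∈ LocCoh.torsionBy m P, ∃ x, θ x = y := by
    intro y hy
    have hyi : ∀ i, y i ∈ LinearMap.range f := fun i => hsurj _ ((Submodule.mem_torsionBySet_iff _ _).2 fun a => by
      show (a : R) • y i = 0
      rw [← Finsupp.smul_apply, (Submodule.mem_torsionBySet_iff _ _).1 hy a]
      rfl)
    choose w hw using hyi
    let w' : ι →₀ (R ⧸ m) := Finsupp.onFinset y.support w fun i hi => Finsupp.mem_support_iff.2 fun h0 => hi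
      (hf.injective ((hw i).trans (h0.trans (map_zero f).symm)))
    refine ⟨c.symm w', (hθs _).trans ?_⟩
    show Finsupp.mapRange f (map_zero f) (c (c.symm w')) = y
    rw [c.apply_symm_apply]
    ext i
    exact hw i
  refine ⟨ι, ⟨LinearEquiv.ofBijective θ ⟨hθi, fun y => ?_⟩⟩⟩
  obtain ⟨k, hk⟩ := hP y
  let J := Jn F k
  have hJk : J ≤ m ^ k := (Jn_le_pow p k).trans (Ideal.pow_le_pow_right k.le_succ)
  have hJm : J ≤ m := (Jn_le_pow p k).trans (Ideal.pow_le_self k.succ_ne_zero)
  obtain ⟨dM⟩ := tower h c k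
  obtain ⟨dE⟩ := tower hE cE k
  let Y := LocCoh.torsionBy J P
  let X := LocCoh.torsionBy J M
  have hY : ∀ z : P, z ∈ Y ↔ ∀ i, z i ∈ LocCoh.torsionBy J E := fun z => by
    refine ⟨fun h i => (Submodule.mem_torsionBySet_iff _ _).2 fun a => ?_,
      fun h => (Submodule.mem_torsionBySet_iff _ _).2 fun a => Finsupp.ext fun i =>
        (Submodule.mem_torsionBySet_iff _ _).1 (h i) a⟩
    show (a : R) • z i = 0
    rw [← Finsupp.smul_apply, (Submodule.mem_torsionBySet_iff _ _).1 h a]
    rfl
  let T : (ι →₀ LocCoh.torsionBy J E) →ₗ[R] Y :=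
    (Finsupp.mapRange.linearMap (LocCoh.torsionBy J E).subtype).codRestrict Y fun z => (hY _).2 fun i => (z i).2
  let φ : X →ₗ[R] Y := θ.restrict fun x hx => (Submodule.mem_torsionBySet_iff _ _).2 fun a => by
    rw [← map_smul, (Submodule.mem_torsionBySet_iff _ _).1 hx a, map_zero]
  have hT : Function.Bijective T :=
    ⟨fun a b hab => Finsupp.mapRange_injective _ rfl Subtype.val_injective (congrArg Subtype.val hab),
    fun z => ⟨Finsupp.onFinset z.1.support (fun i => ⟨z.1 i, (hY _).1 z.2 i⟩) fun i hi =>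
      Finsupp.mem_support_iff.2 fun h0 => hi (Subtype.ext h0), Subtype.ext (Finsupp.ext fun _ => rfl)⟩⟩
  let ψ : Y ≃ₗ[R] X := ((LinearEquiv.ofBijective T hT).symm.trans (Finsupp.mapRange.linearEquiv
    (dE.trans (Finsupp.LinearEquiv.finsuppUnique R (R ⧸ J) PUnit.{u + 1})))).trans dM.symm
  have hφi : Function.Injective φ := fun a b hab => Subtype.ext (hθi (congrArg Subtype.val hab))
  -- retraction
  obtain ⟨r', hr'⟩ := Module.Injective.extension_property R P _ _ φ hφi (Y.subtype.comp ψ.symm.toLinearMap)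
  have hr'Y : ∀ z, r' z ∈ Y := fun z => (Submodule.mem_torsionBySet_iff _ _).2 fun a => by
    rw [← map_smul, show (a : R) • z = 0 from Subtype.ext ((Submodule.mem_torsionBySet_iff _ _).1 z.2 a), map_zero]
  let r : Y →ₗ[R] X := ψ.toLinearMap.comp (r'.codRestrict Y hr'Y)
  have hr : ∀ x, r (φ x) = x := fun x => by
    show ψ ⟨r' (φ x), _⟩ = x
    rw [← ψ.eq_symm_apply]
    exact Subtype.ext (LinearMap.congr_fun hr' x)
  have hbot : (LinearMap.ker r).map Y.subtype = ⊥ := eq_zero_of_socle hP _ fun z hz hz' => by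
    obtain ⟨z, hzk, rfl⟩ := hz
    obtain ⟨x, hx⟩ := hsoc _ hz'
    have hxX : x ∈ X := (Submodule.mem_torsionBySet_iff _ _).2 fun a => hθi (by
      rw [map_smul, hx, map_zero]; exact (Submodule.mem_torsionBySet_iff _ _).1 z.2 a)
    have hzx : z = φ ⟨x, hxX⟩ := Subtype.ext hx.symm
    have h0 : r z = 0 := hzk
    rw [hzx, hr] at h0
    rw [hzx, h0, map_zero]
    rfl
  have hyY : y ∈ Y := (Submodule.mem_torsionBySet_iff _ _).2 fun a => hk a (hJk a.2)
  let yy : Y := ⟨y, hyY⟩
  have hdiff : (yy - φ (r yy)).1 ∈ (LinearMap.ker r).map Y.subtype :=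
    ⟨yy - φ (r yy), LinearMap.mem_ker.2 (by rw [map_sub, hr, sub_self]), rfl⟩
  rw [hbot, Submodule.mem_bot] at hdiff
  exact ⟨(r yy).1, (sub_eq_zero.1 hdiff).symm⟩

end Groth.Agent.H1FrobStable
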